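import Groth.Prelude.Def_TorSh
import Groth.Agent.Ega1.SubSheaf
import Groth.Agent.Ega1.ModGerm
import Groth.Agent.Fdesc.QCohStalk
import Mathlib.AlgebraicGeometry.FunctionField

/-! Torsion-free modules of rank one embed into the sheaf of rational functions, modelled as the direct
image of the structure sheaf of the spectrum of the function field. -/

set_option autoImplicit false
universe u

namespace K653.RatEmb

open AlgebraicGeometry CategoryTheory TopologicalSpace Opposite
open Groth.Agent.Ega1 Groth.Agent.Ega1.SubSheaf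

variable (X : Scheme.{u}) [IsIntegral X]

/-- The generic point as a map from the spectrum of the function field. -/
noncomputable abbrev gen : Spec (X.presheaf.stalk (genericPoint X)) ⟶ X :=
  X.fromSpecStalk (genericPoint X)

/-- The sheaf of rational functions. -/
noncomputable abbrev ratSh : X.Modules :=
  (Scheme.Modules.pushforward (gen X)).obj
    (Coh.structureModule (Spec (X.presheaf.stalk (genericPoint X))))

variable {X}

/-- sections of `ratSh` as sections of the structure sheaf. -/
def toFn {U : X.Opens} (s : Γ(ratSh X, U)) :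
    Γ(Spec (X.presheaf.stalk (genericPoint X)), gen X ⁻¹ᵁ U) := s

/-- sections of the structure sheaf as sections of `ratSh`. -/
def ofFn {U : X.Opens} (s : Γ(Spec (X.presheaf.stalk (genericPoint X)), gen X ⁻¹ᵁ U)) :
    Γ(ratSh X, U) := s

theorem toFn_smul {U : X.Opens} (a : Γ(X, U)) (s : Γ(ratSh X, U)) :
    toFn (a • s) = (gen X).app U a * toFn s := rfl

theorem toFn_res {U V : X.Opens} (h : V ≤ U) (s : Γ(ratSh X, U)) :
    toFn (res (ratSh X) h s) =
      (Spec (X.presheaf.stalk (genericPoint X))).presheaf.map
        (homOfLE ((gen X).preimage_mono h)).op (toFn s) := rfl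

theorem genericPoint_mem_iff {U : X.Opens} : genericPoint X ∈ U ↔ (U : Set X).Nonempty := by
  have h := (genericPoint_spec X).mem_open_set_iff U.2
  rw [Set.univ_inter] at h
  exact h

/-- Restriction of a rational function on `X` is the germ at the generic point. -/
theorem gen_app {U : X.Opens} (h : genericPoint X ∈ U) (a : Γ(X, U)) :
    (gen X).app U a = algebraMap (X.presheaf.stalk (genericPoint X)) _
      (X.presheaf.germ U (genericPoint X) h a) := by
  rw [Scheme.fromSpecStalk_app h]
  rfl

theorem subsingleton_of_not_mem {U : X.Opens} (h : genericPoint X ∉ U) :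
    Subsingleton Γ(ratSh X, U) := by
  have h1 : gen X ⁻¹ᵁ U = ⊥ := by
    rw [eq_bot_iff]
    intro z hz
    exfalso
    apply h
    rw [genericPoint_mem_iff]
    exact ⟨_, hz⟩
  have h2 : Subsingleton Γ(Spec (X.presheaf.stalk (genericPoint X)), gen X ⁻¹ᵁ U) := by
    rw [h1]; infer_instance
  exact h2

/-- The morphism to `ratSh` given by a linear form on the generic stalk. -/
noncomputable def mapOf (F : X.Modules)
    (φ : F.presheaf.stalk (genericPoint X) →ₗ[X.presheaf.stalk (genericPoint X)]
      X.presheaf.stalk (genericPoint X)) : F ⟶ ratSh X := by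
  classical
  exact homMk
    (fun U => if h : genericPoint X ∈ U then
      AddMonoidHom.mk' (fun s => ofFn (algebraMap (X.presheaf.stalk (genericPoint X)) _
        (φ (ModGerm.germ F U (genericPoint X) h s)))) (fun a b => by
          rw [map_add, map_add, map_add]; rfl) else 0)
    (fun U V h s => by
      by_cases hV : genericPoint X ∈ V
      · have hU : genericPoint X ∈ U := h hV
        rw [dif_pos hV, dif_pos hU]
        simp only [AddMonoidHom.mk'_apply]
        have e := ModGerm.germ_res F h hV s
        change ofFn (algebraMap _ _ (φ (ModGerm.germ F V (genericPoint X) hV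
          (F.presheaf.map (homOfLE h).op s)))) = _
        rw [e]
        rfl
      · exact (subsingleton_of_not_mem hV).elim _ _)
    (fun U a s => by
      by_cases hU : genericPoint X ∈ U
      · rw [dif_pos hU]
        simp only [AddMonoidHom.mk'_apply]
        have e := ModGerm.germ_smul F U (genericPoint X) hU a s
        rw [e, map_smul]
        have e2 := gen_app hU a
        have e3 := map_mul (algebraMap (X.presheaf.stalk (genericPoint X))
          Γ(Spec (X.presheaf.stalk (genericPoint X)), gen X ⁻¹ᵁ U))
          (X.presheaf.germ U (genericPoint X) hU a) (φ (ModGerm.germ F U (genericPoint X) hU s))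
        rw [← e2] at e3
        exact e3
      · exact (subsingleton_of_not_mem hU).elim _ _)

theorem mapOf_app (F : X.Modules)
    (φ : F.presheaf.stalk (genericPoint X) →ₗ[X.presheaf.stalk (genericPoint X)]
      X.presheaf.stalk (genericPoint X)) {U : X.Opens} (h : genericPoint X ∈ U) (s : Γ(F, U)) :
    toFn ((mapOf F φ).app U s) = algebraMap (X.presheaf.stalk (genericPoint X)) _
        (φ (ModGerm.germ F U (genericPoint X) h s)) := by
  classical
  unfold mapOf
  rw [homMk_app, dif_pos h]
  rfl

theorem algebraMap_bijective {U : X.Opens} (h : genericPoint X ∈ U) :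
    Function.Bijective (algebraMap (X.presheaf.stalk (genericPoint X))
      Γ(Spec (X.presheaf.stalk (genericPoint X)), gen X ⁻¹ᵁ U)) := by
  have hK : IsField (X.presheaf.stalk (genericPoint X)) :=
    (inferInstance : Field X.functionField).toIsField
  have h1 : gen X ⁻¹ᵁ U = ⊤ := by
    rw [eq_top_iff]
    intro z _
    have : z = IsLocalRing.closedPoint (X.presheaf.stalk (genericPoint X)) := by
      let := hK.toField
      exact Subsingleton.elim (α := PrimeSpectrum (X.presheaf.stalk (genericPoint X))) _ _
    rw [this]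
    change gen X _ ∈ U
    rw [Scheme.fromSpecStalk_closedPoint]
    exact h
  rw [h1]
  exact ConcreteCategory.bijective_of_isIso
    (Scheme.ΓSpecIso (X.presheaf.stalk (genericPoint X))).inv

theorem smul_eq_zero_of_isTorsionFree {F : X.Modules}
    (hF : TorSh.IsTorsionFree F) {U : X.Opens} (c : Γ(X, U)) (hc : c ≠ 0) (t : Γ(F, U))
    (h : c • t = 0) : t = 0 := by
  apply ModGerm.section_eq_zero
  intro x hx
  have e2 : X.presheaf.germ U x hx c • ModGerm.germ F U x hx t = 0 := by
    rw [← ModGerm.germ_smul, h, map_zero]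
  have := hF x
  rcases smul_eq_zero.mp e2 with h | h
  · exfalso
    apply hc
    apply germ_injective_of_isIntegral X x hx
    rw [h, map_zero]
  · exact h

omit [IsIntegral X] in
theorem exists_ne_zero_smul_eq_zero {F : X.Modules} (hq : Coh.IsQCoh F) {U : X.Opens}
    (hU : IsAffineOpen U) (x : X) (hx : x ∈ U) (s : Γ(F, U)) (h : ModGerm.germ F U x hx s = 0) :
    ∃ c : Γ(X, U), c ≠ 0 ∧ c • s = 0 := by
  let := Groth.Agent.Fdesc.QCohStalk.stalkModule F x hx
  have hloc := Groth.Agent.Fdesc.QCohStalk.isLocalizedModule_germ F hU hq x hx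
  have h1 : Groth.Agent.Fdesc.QCohStalk.germₗ F x hx s = Groth.Agent.Fdesc.QCohStalk.germₗ F x hx 0 := by
    rw [map_zero]; exact h
  obtain ⟨c, hc⟩ := (IsLocalizedModule.eq_iff_exists (hU.primeIdealOf ⟨x, hx⟩).asIdeal.primeCompl
    (Groth.Agent.Fdesc.QCohStalk.germₗ F x hx)).mp h1
  refine ⟨c.1, ?_, ?_⟩
  · intro h2
    apply c.2
    rw [h2]
    exact Ideal.zero_mem _
  · rw [smul_zero] at hc
    exact hc

theorem germ_injective {F : X.Modules} (hq : Coh.IsQCoh F) (hF : TorSh.IsTorsionFree F)
    {U : X.Opens} (x : X) (hx : x ∈ U) : Function.Injective (ModGerm.germ F U x hx) := by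
  rw [injective_iff_map_eq_zero]
  intro s hs
  -- reduce to the generic point
  obtain ⟨V, hxV, i, hV⟩ := ModGerm.germ_eq_zero F hx s hs
  have hξV : genericPoint X ∈ V := genericPoint_mem_iff.mpr ⟨x, hxV⟩
  refine ModGerm.section_eq_zero F s (fun y hy => ?_)
  obtain ⟨W, hW, hyW, hWU⟩ := exists_isAffineOpen_mem_and_subset (x := y) (U := U) hy
  replace hWU : W ≤ U := hWU
  have hξW : genericPoint X ∈ W := genericPoint_mem_iff.mpr ⟨y, hyW⟩
  have h1 : ModGerm.germ F W (genericPoint X) hξW (F.presheaf.map (homOfLE hWU).op s) = 0 := by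
    rw [ModGerm.germ_res F hWU hξW s, ← ModGerm.germ_res F i hξV s, hV, map_zero]
  obtain ⟨c, hc, hcs⟩ := exists_ne_zero_smul_eq_zero hq hW _ hξW _ h1
  have h2 := smul_eq_zero_of_isTorsionFree hF c hc _ hcs
  rw [← ModGerm.germ_res F hWU hyW s, h2, map_zero]

theorem exists_mono {F : X.Modules} (hq : Coh.IsQCoh F) (hF : TorSh.IsTorsionFree F)
    (h1 : Module.finrank (X.presheaf.stalk (genericPoint X))
      (F.presheaf.stalk (genericPoint X)) = 1) : ∃ i : F ⟶ ratSh X, Mono i := by
  obtain ⟨v, hv, hspan⟩ := (finrank_eq_one_iff' (K := X.functionField)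
    (V := F.presheaf.stalk (genericPoint X))).mp h1
  have e : Nonempty (F.presheaf.stalk (genericPoint X) ≃ₗ[X.functionField] X.functionField) := by
    refine ⟨(LinearEquiv.ofBijective (LinearMap.toSpanSingleton X.functionField _ v) ⟨?_, ?_⟩).symm⟩
    · rw [injective_iff_map_eq_zero]
      intro c hc
      exact (smul_eq_zero.mp hc).resolve_right hv
    · intro w
      obtain ⟨c, hc⟩ := hspan w
      exact ⟨c, hc⟩
  obtain ⟨φ⟩ := e
  refine ⟨mapOf F φ.toLinearMap, ?_⟩
  rw [SubSheaf.mono_iff_injective]
  intro U
  by_cases hU : genericPoint X ∈ U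
  · intro s t hst
    apply germ_injective hq hF (genericPoint X) hU
    apply φ.injective
    apply (algebraMap_bijective hU).1
    have h2 := mapOf_app F φ.toLinearMap hU s
    have h3 := mapOf_app F φ.toLinearMap hU t
    rw [hst] at h2
    exact h2.symm.trans h3
  · intro s t _
    have h2 : U = ⊥ := by
      rw [genericPoint_mem_iff, Set.not_nonempty_iff_eq_empty] at hU
      exact Opens.ext hU
    subst h2
    refine ModGerm.section_ext F s t (fun x hx => hx.elim)

/-- Nonzero submodules of the sheaf of rational functions are torsion-free. -/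
theorem isTorsionFree_of_mono {G : X.Modules} (i : G ⟶ ratSh X) [Mono i] :
    TorSh.IsTorsionFree G := by
  have hi := (SubSheaf.mono_iff_injective i).mp inferInstance
  intro x
  refine Module.IsTorsionFree.of_smul_eq_zero ?_
  intro a s h
  obtain ⟨V, hxV, a, rfl⟩ := TopCat.Presheaf.exists_germ_eq _ a
  obtain ⟨W, hWV, hxW, s, rfl⟩ := ModGerm.exists_germ G s hxV
  have hb : TopCat.Presheaf.germ X.presheaf W x hxW (X.presheaf.map (homOfLE hWV).op a) =
      TopCat.Presheaf.germ X.presheaf V x hxV a :=
    TopCat.Presheaf.germ_res_apply X.presheaf (homOfLE hWV) x hxW a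
  rw [← hb] at h ⊢
  generalize (X.presheaf.map (homOfLE hWV).op a : Γ(X, W)) = b at h ⊢
  rw [← ModGerm.germ_smul G] at h
  by_cases hb0 : b = 0
  · left; rw [hb0, map_zero]
  right
  obtain ⟨W', hxW', j, e⟩ := ModGerm.germ_eq_zero G hxW _ h
  rw [ModGerm.map_smul'] at e
  rw [← ModGerm.germ_res G j hxW' s]
  have hξ : genericPoint X ∈ W' := genericPoint_mem_iff.mpr ⟨x, hxW'⟩
  have hb1 : (X.presheaf.map (homOfLE j).op b : Γ(X, W')) ≠ 0 := by
    intro h0
    apply hb0
    have : Nonempty W' := ⟨⟨x, hxW'⟩⟩
    exact map_injective_of_isIntegral X (homOfLE j) (by rw [h0, map_zero])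
  generalize (X.presheaf.map (homOfLE j).op b : Γ(X, W')) = c at e hb1
  generalize (G.presheaf.map (homOfLE j).op s : Γ(G, W')) = t at e ⊢
  have ht : t = 0 := by
    apply hi W'
    rw [map_zero]
    have e1 : toFn (i.app W' (c • t)) = 0 := by rw [e, map_zero]; rfl
    rw [app_smul', toFn_smul, gen_app hξ] at e1
    obtain ⟨k, hk⟩ := (algebraMap_bijective hξ).2 (toFn (i.app W' t))
    rw [← hk, ← map_mul] at e1
    have e2 := (algebraMap_bijective hξ).1 (e1.trans (map_zero _).symm)
    have e3 : X.presheaf.germ W' (genericPoint X) hξ c ≠ 0 := by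
      intro h0
      apply hb1
      apply germ_injective_of_isIntegral X (genericPoint X) hξ
      rw [h0, map_zero]
    have e4 : k = 0 := by
      have := mul_eq_zero (M₀ := X.functionField) (a := X.presheaf.germ W' (genericPoint X) hξ c)
        (b := k)
      exact (this.mp e2).resolve_left e3
    rw [e4, map_zero] at hk
    exact hk.symm
  rw [ht, map_zero]

theorem finrank_eq_one_of_mono {G : X.Modules} (hq : Coh.IsQCoh G) (i : G ⟶ ratSh X) [Mono i]
    (hG : ¬ Limits.IsZero G) :
    Module.finrank (X.presheaf.stalk (genericPoint X))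
      (G.presheaf.stalk (genericPoint X)) = 1 := by
  have hi := (SubSheaf.mono_iff_injective i).mp inferInstance
  have hT := isTorsionFree_of_mono i
  -- a nonzero section
  have h1 : ∃ (U : X.Opens) (s : Γ(G, U)), s ≠ 0 := by
    by_contra hcon
    push Not at hcon
    apply hG
    rw [Limits.IsZero.iff_id_eq_zero]
    apply Scheme.Modules.hom_ext
    intro U
    ext s
    exact (hcon U _).trans (hcon U _).symm
  obtain ⟨U, s, hs⟩ := h1
  have hU : genericPoint X ∈ U := by
    rw [genericPoint_mem_iff]
    by_contra hne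
    rw [Set.not_nonempty_iff_eq_empty] at hne
    have h2 : U = ⊥ := Opens.ext hne
    subst h2
    exact hs (ModGerm.section_ext G s 0 (fun x hx => hx.elim))
  let v := ModGerm.germ G U (genericPoint X) hU s
  have hv : v ≠ 0 := by
    intro h
    exact hs (germ_injective hq hT (genericPoint X) hU (h.trans (map_zero _).symm))
  refine (finrank_eq_one_iff_of_nonzero' (K := X.functionField) v hv).mpr ?_
  intro w
  obtain ⟨V, hVU, hV, t, rfl⟩ := ModGerm.exists_germ G w hU
  -- compare on `V`
  let s' : Γ(G, V) := G.presheaf.map (homOfLE hVU).op s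
  have hs' : ModGerm.germ G V (genericPoint X) hV s' = v := ModGerm.germ_res G hVU hV s
  obtain ⟨ks, hks⟩ := (algebraMap_bijective hV).2 (toFn (i.app V s'))
  obtain ⟨kt, hkt⟩ := (algebraMap_bijective hV).2 (toFn (i.app V t))
  have hks0 : ks ≠ 0 := by
    intro h0
    rw [h0, map_zero] at hks
    have h3 : s' = 0 := hi V ((hks.symm : toFn (i.app V s') = 0).trans (map_zero (i.app V).hom).symm)
    apply hv
    rw [← hs', h3, map_zero]
  let c : X.functionField := (kt : X.functionField) / (ks : X.functionField)
  have hc : c * ks = kt := div_mul_cancel₀ _ hks0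
  refine ⟨c, ?_⟩
  obtain ⟨W, hWV, hξW, a, ha⟩ := TopCat.Presheaf.exists_le_germ_eq X.presheaf c hV
  replace hWV : W ≤ V := hWV
  have key : a • (G.presheaf.map (homOfLE hWV).op s' : Γ(G, W)) =
      G.presheaf.map (homOfLE hWV).op t := by
    apply hi W
    change toFn (i.app W _) = toFn (i.app W _)
    rw [app_smul', toFn_smul, gen_app hξW, ha]
    have r1 := app_res i hWV s'
    have r2 := app_res i hWV t
    rw [r1, r2, toFn_res, toFn_res, ← hks, ← hkt, ← hc]
    exact (map_mul (algebraMap (X.presheaf.stalk (genericPoint X))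
      Γ(Spec (X.presheaf.stalk (genericPoint X)), gen X ⁻¹ᵁ W)) c ks).symm
  rw [← ModGerm.germ_res G hWV hξW t, ← key, ModGerm.germ_smul, ModGerm.germ_res, hs', ha]

end K653.RatEmb
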